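import Cfsg.Agent.Lib.Flavell.Members
import Cfsg.Agent.Lib.Components.FStar

/-!
Owner: helper26 (S1930). A characteristic subgroup of the intersection of the invariant Sylow subgroups that is
normalised by the group.
-/

set_option autoImplicit false
set_option linter.unusedSectionVars false

namespace CfsgLib.Flavell

open Cfsg Subgroup

universe u

variable {p : ℕ} [Fact p.Prime] {X : Type u} [Group X] [Finite X] {G A : Subgroup X}

theorem Setup.phi_eq (h : Setup p G A) (hsc : G ⊓ centralizer (coreOf p G : Set X) ≤ coreOf p G)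
    {S : Subgroup X} (hS : bPlus p G A ≤ S) : phi (invInter p G A) S = phi (coreOf p G) S :=
  le_antisymm (sSup_le fun _ hK => le_phi (hK.mono_left (h.mem_le_core hsc hS hK)))
    (sSup_le fun _ hK => le_phi (hK.mono_left (hK.le.trans coreOf_le_invInter)))

theorem Setup.cfun_invInter (h : Setup p G A) (hsc : G ⊓ centralizer (coreOf p G : Set X) ≤ coreOf p G) :
    cfun (invInter p G A) = cfun (coreOf p G) ∧ bPlus p G A ≤ cfun (invInter p G A) := by
  have hge : ∀ {T S : Subgroup X}, S ≤ invInter p G A → coreOf p G ≤ T → bPlus p G A ≤ phi T S :=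
    fun hS hT => bPlus_le_phi h hS hT
  set P := invInter p G A
  set D := coreOf p G
  have hP1 : bPlus p G A ≤ phi P (cfun P) := hge (cfun_le P) coreOf_le_invInter
  have hP2 : bPlus p G A ≤ cfun P := by
    rw [← cfun_eq P]; exact hge (phi_le _ _) coreOf_le_invInter
  have hD1 : bPlus p G A ≤ phi D (cfun D) := hge ((cfun_le D).trans coreOf_le_invInter) le_rfl
  have hD2 : bPlus p G A ≤ cfun D := by
    rw [← cfun_eq D]; exact hge ((phi_le _ _).trans coreOf_le_invInter) le_rfl
  refine ⟨le_antisymm (cfun_min ?_) (cfun_min ?_), hP2⟩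
  · rw [h.phi_eq hsc hD2, h.phi_eq hsc hD1, cfun_eq]
  · rw [← h.phi_eq hsc hP2, ← h.phi_eq hsc hP1, cfun_eq]

/-- A nontrivial characteristic subgroup of the intersection of the invariant Sylow subgroups is normalised
by `G`. -/
theorem Setup.exists_char (h : Setup p G A) (hne : G ≠ ⊥)
    (hsc : G ⊓ centralizer (coreOf p G : Set X) ≤ coreOf p G) :
    ∃ C : Subgroup (invInter p G A), C.Characteristic ∧ C ≠ ⊥ ∧
      G ≤ normalizer (C.map (invInter p G A).subtype : Set X) := by
  by_cases hGp : IsPGroup p G
  · have hP : invInter p G A = G := le_antisymm h.invInter_le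
      ((CfsgLib.PLocal.ZJCoprime.le_pCore_map le_rfl le_normalizer hGp).trans coreOf_le_invInter)
    have e : (⊤ : Subgroup (invInter p G A)).map (invInter p G A).subtype = G := by
      rw [← MonoidHom.range_eq_map, range_subtype, hP]
    refine ⟨⊤, inferInstance, fun e' => hne ?_, ?_⟩
    · rw [← e, e', Subgroup.map_bot]
    · rw [e]; exact le_normalizer
  · obtain ⟨e, hle⟩ := h.cfun_invInter hsc
    refine ⟨cfun ⊤, cfun_characteristic, fun e' => ?_, ?_⟩
    · obtain ⟨B, M, t⟩ := exists_test hsc h.hAn le_rfl le_normalizer h.hAn hGp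
      refine t.ne_bot le_rfl (le_bot_iff.1 ((t.le_bPlus.trans hle).trans ?_))
      rw [← cfun_subgroupOf, e', Subgroup.map_bot]
    · rw [cfun_subgroupOf, e]
      exact (le_normalizer.trans normalizer_le_coreOf).trans (cfun_normalized _)

end CfsgLib.Flavell
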