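import Mathlib

/-!
Owner: helper26 (S1930). A transformation with `L³ = 0` cannot shift a form by an invariant form that is
nondegenerate, in characteristic prime to six.
-/

set_option autoImplicit false

namespace CfsgLib.Flavell

variable {G : Type*} [Group G] {W : Type*} [AddCommGroup W]

/-- Additivity in both variables on `T`. -/
structure Biadd (T : Subgroup G) (F : G → G → W) : Prop where
  left : ∀ u ∈ T, ∀ u' ∈ T, ∀ v ∈ T, F (u * u') v = F u v + F u' v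
  right : ∀ u ∈ T, ∀ v ∈ T, ∀ v' ∈ T, F u (v * v') = F u v + F u v'

theorem Biadd.mul_mul {T : Subgroup G} {F : G → G → W} (h : Biadd T F) {a u b v : G} (ha : a ∈ T) (hu : u ∈ T)
    (hb : b ∈ T) (hv : v ∈ T) : F (a * u) (b * v) = F a b + F a v + (F u b + F u v) := by
  rw [h.left a ha u hu (b * v) (T.mul_mem hb hv), h.right a ha b hb v hv, h.right u hu b hb v hv]

theorem shift_eq_zero {T : Subgroup G} {F F₀ : G → G → W} (hF : Biadd T F) (hF₀ : Biadd T F₀) {L : G → G}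
    (hL : ∀ u ∈ T, L u ∈ T)
    (h1 : ∀ u ∈ T, ∀ v ∈ T, F (L u * u) (L v * v) = F u v + F₀ u v)
    (h2 : ∀ u ∈ T, ∀ v ∈ T, F₀ (L u * u) (L v * v) = F₀ u v)
    (h3 : ∀ u ∈ T, ∀ v ∈ T, F (L (L (L u))) v = 0 ∧ F u (L (L (L v))) = 0 ∧
      F₀ (L (L (L u))) v = 0 ∧ F₀ u (L (L (L v))) = 0)
    (hnd : ∀ u ∈ T, (∀ v ∈ T, F₀ u v = 0) → ∀ v ∈ T, F u v = 0 ∧ F v u = 0 ∧ F₀ v u = 0)
    (htwo : ∀ w : W, w + w = 0 → w = 0) (hthree : ∀ w : W, w + w + w = 0 → w = 0)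
    {u v : G} (hu : u ∈ T) (hv : v ∈ T) : F₀ u v = 0 := by
  -- expansions
  have e1 : ∀ u ∈ T, ∀ v ∈ T, F (L u) (L v) + F (L u) v + F u (L v) = F₀ u v := fun u hu v hv => by
    have h := h1 u hu v hv
    rw [hF.mul_mul (hL u hu) hu (hL v hv) hv, ← add_assoc, add_comm (F u v)] at h
    exact add_right_cancel h
  have e2 : ∀ u ∈ T, ∀ v ∈ T, F₀ (L u) (L v) + F₀ (L u) v + F₀ u (L v) = 0 := fun u hu v hv => by
    have h := h2 u hu v hv
    rw [hF₀.mul_mul (hL u hu) hu (hL v hv) hv, ← add_assoc] at h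
    exact add_eq_right.mp h
  have hLL : ∀ u ∈ T, L (L u) ∈ T := fun u hu => hL _ (hL u hu)
  -- one variable in the image of `L²`
  have i1 : ∀ u ∈ T, ∀ v ∈ T, F (L (L u)) (L v) = F₀ (L (L u)) v := fun u hu v hv => by
    have h := e1 _ (hLL u hu) v hv
    rwa [(h3 u hu (L v) (hL v hv)).1, (h3 u hu v hv).1, zero_add, zero_add] at h
  have i1' : ∀ u ∈ T, ∀ v ∈ T, F (L u) (L (L v)) = F₀ u (L (L v)) := fun u hu v hv => by
    have h := e1 u hu _ (hLL v hv)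
    rwa [(h3 (L u) (hL u hu) v hv).2.1, (h3 u hu v hv).2.1, zero_add, add_zero] at h
  have i2 : ∀ u ∈ T, ∀ v ∈ T, F₀ (L (L u)) (L v) = 0 := fun u hu v hv => by
    have h := e2 _ (hLL u hu) v hv
    rwa [(h3 u hu (L v) (hL v hv)).2.2.1, (h3 u hu v hv).2.2.1, zero_add, zero_add] at h
  have i2' : ∀ u ∈ T, ∀ v ∈ T, F₀ (L u) (L (L v)) = 0 := fun u hu v hv => by
    have h := e2 u hu _ (hLL v hv)
    rwa [(h3 (L u) (hL u hu) v hv).2.2.2, (h3 u hu v hv).2.2.2, zero_add, add_zero] at h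
  have k : ∀ u ∈ T, ∀ v ∈ T, F₀ (L u) (L v) = 0 ∧ F₀ (L (L u)) v = 0 := fun u hu v hv => by
    have a := e2 (L u) (hL u hu) v hv
    rw [i2 u hu v hv, zero_add] at a
    have b := e2 u hu (L v) (hL v hv)
    rw [i2' u hu v hv, zero_add] at b
    have c := e1 (L u) (hL u hu) (L v) (hL v hv)
    have z : F (L (L u)) (L (L v)) = 0 := by rw [i1 u hu (L v) (hL v hv), i2 u hu v hv]
    rw [z, zero_add, i1 u hu v hv, i1' u hu v hv] at c
    have h0 : F₀ (L u) (L v) = 0 := hthree _ (by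
      calc F₀ (L u) (L v) + F₀ (L u) (L v) + F₀ (L u) (L v)
          = (F₀ (L (L u)) v + F₀ (L u) (L v)) + (F₀ (L u) (L v) + F₀ u (L (L v)))
            + (F₀ (L u) (L v) - (F₀ (L (L u)) v + F₀ u (L (L v)))) := by abel
        _ = 0 := by rw [a, b, c, sub_self]; simp)
    exact ⟨h0, by rwa [h0, add_zero] at a⟩
  -- the image of `L²` is radical
  have r2 : ∀ u ∈ T, ∀ v ∈ T, F (L (L u)) v = 0 ∧ F v (L (L u)) = 0 := fun u hu v hv =>
    ⟨(hnd _ (hLL u hu) (fun w hw => (k u hu w hw).2) v hv).1,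
      (hnd _ (hLL u hu) (fun w hw => (k u hu w hw).2) v hv).2.1⟩
  have r1 : ∀ u ∈ T, ∀ v ∈ T, F₀ (L u) v = 0 := fun u hu v hv => by
    have a := e1 (L u) (hL u hu) v hv
    rw [(r2 u hu (L v) (hL v hv)).1, (r2 u hu v hv).1, zero_add, zero_add] at a
    have b := e1 u hu (L v) (hL v hv)
    rw [(r2 v hv (L u) (hL u hu)).2, (r2 v hv u hu).2, zero_add, add_zero] at b
    have c := e2 u hu v hv
    rw [(k u hu v hv).1, zero_add] at c
    rw [← b, a] at c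
    exact htwo _ c
  have rad : ∀ u ∈ T, ∀ v ∈ T, F (L u) v = 0 ∧ F v (L u) = 0 := fun u hu v hv =>
    ⟨(hnd _ (hL u hu) (fun w hw => r1 u hu w hw) v hv).1,
      (hnd _ (hL u hu) (fun w hw => r1 u hu w hw) v hv).2.1⟩
  have := e1 u hu v hv
  rw [(rad u hu (L v) (hL v hv)).1, (rad u hu v hv).1, (rad v hv u hu).2, add_zero, add_zero] at this
  exact this.symm

end CfsgLib.Flavell
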