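import Mathlib

/-!
Owner: helper26 (S1930). The class-two functor: `cfun T` is the least fixed point of the square of an
antitone map on subgroups, built from the subgroups of `T` of class at most two on which quadratic
elements act trivially modulo the centre.
-/

set_option autoImplicit false

namespace CfsgLib.Flavell

open Subgroup
open scoped commutatorElement

variable {X : Type*} [Group X]

/-- The centre of `K`, inside the ambient group. -/
def zIn (K : Subgroup X) : Subgroup X := K ⊓ centralizer (K : Set X)

/-- The generators of `phi T S`. -/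
structure Mem (T S K : Subgroup X) : Prop where
  le : K ≤ T
  normalized : S ≤ normalizer (K : Set X)
  classTwo : ∀ k ∈ K, ∀ k' ∈ K, ⁅k, k'⁆ ∈ zIn K
  quad : ∀ x ∈ S, (∀ k ∈ K, ⁅⁅k, x⁆, x⁆ ∈ zIn K) → ∀ k ∈ K, ⁅k, x⁆ ∈ zIn K

/-- The join of the generators. -/
def phi (T S : Subgroup X) : Subgroup X := sSup {K | Mem T S K}

theorem phi_le (T S : Subgroup X) : phi T S ≤ T := sSup_le fun _ hK => hK.le

theorem le_phi {T S K : Subgroup X} (h : Mem T S K) : K ≤ phi T S := le_sSup h

theorem phi_anti (T : Subgroup X) {S S' : Subgroup X} (h : S ≤ S') : phi T S' ≤ phi T S :=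
  sSup_le fun _ hK => le_sSup
    ⟨hK.le, h.trans hK.normalized, hK.classTwo, fun x hx => hK.quad x (h hx)⟩

theorem Mem.mono_left {T T' S K : Subgroup X} (h : Mem T S K) (hK : K ≤ T') : Mem T' S K :=
  ⟨hK, h.normalized, h.classTwo, h.quad⟩

/-- The square of `phi`. -/
def step (T : Subgroup X) : Subgroup X →o Subgroup X where
  toFun S := phi T (phi T S)
  monotone' _ _ h := phi_anti T (phi_anti T h)

/-- The characteristic subgroup. -/
def cfun (T : Subgroup X) : Subgroup X := OrderHom.lfp (step T)

theorem cfun_eq (T : Subgroup X) : phi T (phi T (cfun T)) = cfun T := OrderHom.map_lfp (step T)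

theorem cfun_le (T : Subgroup X) : cfun T ≤ T := by
  rw [← cfun_eq]; exact phi_le _ _

theorem cfun_min {T S : Subgroup X} (h : phi T (phi T S) = S) : cfun T ≤ S :=
  OrderHom.lfp_le_fixed (step T) h

section Map

variable {Y : Type*} [Group Y] {f : X →* Y} (hf : Function.Injective f)
include hf

theorem zIn_map (K : Subgroup X) {x : X} : f x ∈ zIn (K.map f) ↔ x ∈ zIn K := by
  simp only [zIn, mem_inf, mem_centralizer_iff, mem_map_iff_mem hf]
  refine and_congr_right fun _ => ⟨fun h k hk => hf ?_, ?_⟩
  · rw [map_mul, map_mul]; exact h _ (mem_map_of_mem f hk)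
  · rintro h _ ⟨k, hk, rfl⟩
    rw [← map_mul, ← map_mul, h k hk]

theorem mem_map_iff' (T S K : Subgroup X) : Mem (T.map f) (S.map f) (K.map f) ↔ Mem T S K := by
  have hn : S.map f ≤ normalizer (K.map f : Set Y) ↔ S ≤ normalizer (K : Set X) := by
    constructor
    · intro h s hs
      rw [mem_normalizer_iff]
      intro y
      have := mem_normalizer_iff.1 (h (mem_map_of_mem f hs)) (f y)
      rwa [← map_inv, ← map_mul, ← map_mul, mem_map_iff_mem hf, mem_map_iff_mem hf] at this
    · intro h
      exact (map_mono h).trans (le_normalizer_map f)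
  constructor
  · intro h
    refine ⟨(map_le_map_iff_of_injective hf).1 h.le, hn.1 h.normalized, fun k hk k' hk' => ?_,
      fun x hx hq k hk => ?_⟩
    · rw [← zIn_map hf, map_commutatorElement]
      exact h.classTwo _ (mem_map_of_mem f hk) _ (mem_map_of_mem f hk')
    · rw [← zIn_map hf, map_commutatorElement]
      refine h.quad _ (mem_map_of_mem f hx) ?_ _ (mem_map_of_mem f hk)
      rintro _ ⟨k, hk, rfl⟩
      rw [← map_commutatorElement, ← map_commutatorElement, zIn_map hf]
      exact hq k hk
  · intro h
    refine ⟨map_mono h.le, hn.2 h.normalized, ?_, ?_⟩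
    · rintro _ ⟨k, hk, rfl⟩ _ ⟨k', hk', rfl⟩
      rw [← map_commutatorElement, zIn_map hf]
      exact h.classTwo k hk k' hk'
    · rintro _ ⟨x, hx, rfl⟩ hq _ ⟨k, hk, rfl⟩
      rw [← map_commutatorElement, zIn_map hf]
      refine h.quad x hx (fun k hk => ?_) k hk
      have := hq _ (mem_map_of_mem f hk)
      rwa [← map_commutatorElement, ← map_commutatorElement, zIn_map hf] at this

theorem map_phi (T S : Subgroup X) : (phi T S).map f = phi (T.map f) (S.map f) := by
  refine le_antisymm (map_le_iff_le_comap.2 (sSup_le fun K hK => map_le_iff_le_comap.1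
    (le_phi ((mem_map_iff' hf T S K).2 hK)))) (sSup_le fun K hK => ?_)
  have e : (K.comap f).map f = K := map_comap_eq_self (hK.le.trans (map_le_range f T))
  rw [← e]
  refine map_mono (le_phi ((mem_map_iff' hf T S _).1 ?_))
  rwa [e]

theorem map_cfun (T : Subgroup X) : (cfun T).map f = cfun (T.map f) := by
  refine le_antisymm ?_ (cfun_min (by rw [← map_phi hf, ← map_phi hf, cfun_eq]))
  have hle : cfun (T.map f) ≤ f.range := (cfun_le _).trans (map_le_range f T)
  have e : ((cfun (T.map f)).comap f).map f = cfun (T.map f) := map_comap_eq_self hle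
  rw [← e]
  refine map_mono (cfun_min (map_injective hf ?_))
  rw [map_phi hf, map_phi hf, e, cfun_eq]

end Map

/-- `cfun ⊤` is characteristic. -/
theorem cfun_characteristic : (cfun (⊤ : Subgroup X)).Characteristic := by
  rw [characteristic_iff_map_eq]
  intro φ
  rw [map_cfun φ.injective, map_top_of_surjective _ φ.surjective]

theorem cfun_subgroupOf (T : Subgroup X) : (cfun (⊤ : Subgroup T)).map T.subtype = cfun T := by
  rw [map_cfun T.subtype_injective, ← MonoidHom.range_eq_map, range_subtype]

theorem cfun_normalized (T : Subgroup X) : normalizer (T : Set X) ≤ normalizer (cfun T : Set X) := by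
  intro g hg
  rw [mem_normalizer_iff_map_conj_eq] at hg ⊢
  rw [map_cfun (MulAut.conj g).injective]
  exact congrArg cfun hg

end CfsgLib.Flavell
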