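import Cfsg.Agent.Lib.Flavell.Tests
import Cfsg.Agent.Lib.Flavell.CubicForm
import Cfsg.Agent.Lib.PGroups.Uniserial

/-!
Owner: helper26 (S1930). The generators of the functor lie in the core.
-/

set_option autoImplicit false
set_option linter.unusedSectionVars false

namespace CfsgLib.Flavell

open Cfsg Subgroup
open scoped commutatorElement Pointwise

universe u

variable {p : ℕ} [Fact p.Prime] {X : Type u} [Group X] [Finite X] {G A B M H : Subgroup X}

theorem normalizer_le_comm (K L : Subgroup X) :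
    normalizer (K : Set X) ⊓ normalizer (L : Set X) ≤ normalizer ((⁅K, L⁆ : Subgroup X) : Set X) :=
  le_normalizer_of_conj_mem fun a ha c hc => by
    suffices h : ⁅K, L⁆ ≤ (⁅K, L⁆ : Subgroup X).comap (MulAut.conj a).toMonoidHom from h hc
    refine commutator_le.2 fun x hx y hy => ?_
    rw [mem_comap, map_commutatorElement]
    exact commutator_mem_commutator ((mem_normalizer_iff.1 ha.1 x).1 hx) ((mem_normalizer_iff.1 ha.2 y).1 hy)

theorem eq_one_of_pow_of_isPGroup {Q : Type*} [Group Q] (hQ : IsPGroup p Q) {x : Q} {m : ℕ}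
    (hm : m.Coprime p) (h : x ^ m = 1) : x = 1 := by
  obtain ⟨k, hk⟩ := hQ x
  have h1 := Nat.dvd_gcd (orderOf_dvd_of_pow_eq_one h) (orderOf_dvd_of_pow_eq_one hk)
  rw [(hm.pow_right k : m.Coprime (p ^ k)), Nat.dvd_one] at h1
  exact orderOf_eq_one_iff.1 h1

theorem coprime_of_lt {m : ℕ} (h0 : 0 < m) (hm : m < p) : m.Coprime p :=
  ((Fact.out : p.Prime).coprime_iff_not_dvd.2 fun h => by
    have := Nat.le_of_dvd h0 h; omega).symm

/-- A minimal section normalised by `H`. -/
def MinStep (H B M S : Subgroup X) : Prop :=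
  M < S ∧ S ≤ B ∧ H ≤ normalizer (S : Set X) ∧
    ∀ S', M ≤ S' → S' ≤ S → H ≤ normalizer (S' : Set X) → S' = M ∨ S' = S

theorem MinStep.conj {S : Subgroup X} (hS : MinStep H B M S) {a : X} (hH : a ∈ normalizer (H : Set X))
    (hB : a ∈ normalizer (B : Set X)) (hM : a ∈ normalizer (M : Set X)) :
    MinStep H B M (S.map (MulAut.conj a).toMonoidHom) := by
  rw [mem_normalizer_iff_map_conj_eq] at hH hB hM
  have hinj : Function.Injective (MulAut.conj a).toMonoidHom := (MulAut.conj a).injective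
  refine ⟨?_, ?_, ?_, fun S' h1 h2 h3 => ?_⟩
  · refine lt_of_le_of_ne ?_ fun e => hS.1.ne (map_injective hinj (hM.trans e))
    conv_lhs => rw [← hM]
    exact map_mono hS.1.le
  · conv_rhs => rw [← hB]
    exact map_mono hS.2.1
  · conv_lhs => rw [← hH]
    exact (map_mono hS.2.2.1).trans (le_normalizer_map _)
  · have e : (S'.comap (MulAut.conj a).toMonoidHom).map (MulAut.conj a).toMonoidHom = S' :=
      map_comap_eq_self_of_surjective (MulAut.conj a).surjective S'
    have hn : H ≤ normalizer (S'.comap (MulAut.conj a).toMonoidHom : Set X) := by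
      refine le_trans (fun g hg => ?_) (le_normalizer_comap (MulAut.conj a).toMonoidHom)
      exact h3 (hH.le ⟨g, hg, rfl⟩)
    rcases hS.2.2.2 _ (fun m hm => mem_comap.2 (h1 (hM.le (mem_map_of_mem _ hm))))
      (fun y hy => (mem_map_iff_mem hinj).1 (h2 (mem_comap.1 hy))) hn with e' | e'
    · exact Or.inl ((e.symm.trans (congrArg (Subgroup.map (MulAut.conj a).toMonoidHom) e')).trans hM)
    · exact Or.inr (e.symm.trans (congrArg (Subgroup.map (MulAut.conj a).toMonoidHom) e'))

/-- Invariant subgroups of an irreducible section have complements normalised by a normal subgroup. -/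
theorem exists_complement (hi : Irr G A B M) (hBp : IsPGroup p B) (hne : M ≠ B) (hHG : H ≤ G)
    (hGH : G ≤ normalizer (H : Set X)) (hAH : A ≤ normalizer (H : Set X)) {R : Subgroup X} (hMR : M ≤ R)
    (hRB : R ≤ B) (hR : H ≤ normalizer (R : Set X)) :
    ∃ T, M ≤ T ∧ T ≤ B ∧ H ≤ normalizer (T : Set X) ∧ T ⊓ R = M ∧ T ⊔ R = B := by
  have hHM := hHG.trans hi.normM
  have hHB := hHG.trans hi.normB
  obtain ⟨T, ⟨hMT, hTB, hHT, hTR⟩, hmax⟩ := wellFounded_gt.has_min
    {T : Subgroup X | M ≤ T ∧ T ≤ B ∧ H ≤ normalizer (T : Set X) ∧ T ⊓ R = M}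
    ⟨M, le_rfl, hi.le, hHM, inf_eq_left.2 hMR⟩
  refine ⟨T, hMT, hTB, hHT, hTR, ?_⟩
  by_contra hne'
  set J := M ⊔ sSup {S | MinStep H B M S} with hJ
  obtain ⟨S0, hS0⟩ : ∃ S, MinStep H B M S := by
    obtain ⟨S, ⟨hMS, hSB, hHS⟩, hmin⟩ := wellFounded_lt.has_min
      {S : Subgroup X | M < S ∧ S ≤ B ∧ H ≤ normalizer (S : Set X)} ⟨B, lt_of_le_of_ne hi.le hne, le_rfl, hHB⟩
    refine ⟨S, hMS, hSB, hHS, fun S' h1 h2 h3 => ?_⟩
    rcases eq_or_lt_of_le h1 with e | hlt
    · exact Or.inl e.symm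
    rcases eq_or_lt_of_le h2 with e | hlt'
    · exact Or.inr e
    exact absurd hlt' (hmin S' ⟨hlt, h2.trans hSB, h3⟩)
  have hJn : ∀ {K : Subgroup X}, K ≤ normalizer (H : Set X) → K ≤ normalizer (B : Set X) →
      K ≤ normalizer (M : Set X) → K ≤ normalizer (J : Set X) := fun {K} hH hB hM =>
    le_normalizer_of_conj_mem fun a ha x hx => by
      suffices h : J ≤ J.comap (MulAut.conj a).toMonoidHom from h hx
      refine sup_le (fun m hm => mem_sup_left ((mem_normalizer_iff.1 (hM ha) m).1 hm)) (sSup_le fun S hS => ?_)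
      rw [← map_le_iff_le_comap]
      exact le_sup_of_le_right (le_sSup (hS.conj (hH ha) (hB ha) (hM ha)))
  have hJB : J = B := by
    rcases hi.irr J le_sup_left (sup_le hi.le (sSup_le fun S hS => hS.2.1)) (hJn hGH hi.normB hi.normM)
      (hJn hAH hi.normB' hi.normM') with e | e
    · exact absurd ((le_sup_of_le_right (le_sSup hS0) : S0 ≤ J).trans e.le) hS0.1.not_ge
    · exact e
  obtain ⟨S, hS, hSnot⟩ : ∃ S, MinStep H B M S ∧ ¬ S ≤ T ⊔ R := by
    by_contra hall
    push Not at hall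
    exact hne' (le_antisymm (sup_le hTB hRB)
      (hJB.ge.trans (sup_le (hMT.trans le_sup_left) (sSup_le hall))))
  have hSTR : S ⊓ (T ⊔ R) = M := by
    rcases hS.2.2.2 (S ⊓ (T ⊔ R)) (le_inf hS.1.le (hMT.trans le_sup_left)) inf_le_left
      ((le_inf hS.2.2.1 ((le_inf hHT hR).trans (normalizer_inf_normalizer_le_normalizer_sup T R))).trans
        inf_normalizer_le_normalizer_inf) with e | e
    · exact e
    · exact absurd (inf_eq_left.1 e) hSnot
  have hST : S ≤ normalizer (T : Set X) := le_normalizer_of_conj_mem fun b hb x hx => by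
    have := T.mul_mem (hMT (hi.commutator_mem hBp (hS.2.1 hb) (hTB hx))) hx
    rwa [show ⁅b, x⁆ * x = b * x * b⁻¹ by simp only [commutatorElement_def]; group] at this
  refine hmax (T ⊔ S) ⟨hMT.trans le_sup_left, sup_le hTB hS.2.1,
    (le_inf hHT hS.2.2.1).trans (normalizer_inf_normalizer_le_normalizer_sup T S), ?_⟩
    (lt_of_le_of_ne le_sup_left fun e => hSnot ((le_sup_right.trans e.ge).trans le_sup_left))
  refine le_antisymm ?_ (le_inf (hMT.trans le_sup_left) hMR)
  rintro x ⟨hx1, hx2⟩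
  have hx1' : x ∈ ((T : Set X) * (S : Set X)) := by
    rw [← coe_mul_of_right_le_normalizer_left T S hST]; exact hx1
  obtain ⟨t, ht, s, hs, rfl⟩ := hx1'
  have hsM : s ∈ M := by
    rw [← hSTR]
    refine ⟨hs, ?_⟩
    have := (T ⊔ R).mul_mem (mem_sup_left (T.inv_mem ht)) (mem_sup_right (S := T) hx2)
    simpa using this
  rw [← hTR]
  exact ⟨T.mul_mem ht (hMT hsM), hx2⟩

/-- An element with cube zero on a test cannot move the commutator form. -/
theorem Test.shift (h : Setup p G A) (t : Test p G A H B M) (hHG : H ≤ G)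
    (hGH : G ≤ normalizer (H : Set X)) (hAH : A ≤ normalizer (H : Set X)) {k : X} (hk : k ∈ H)
    (hcube : ∀ b ∈ B, ⁅k, ⁅k, ⁅k, b⁆⁆⁆ = 1) {Y2 : Subgroup X} (hkY2 : k ∈ normalizer (Y2 : Set X))
    (hdrop : ∀ z ∈ ⁅B, B⁆, ∀ g ∈ H, ⁅k, ⁅g, z⁆⁆ ∈ Y2) : ∀ y ∈ ⁅B, B⁆, ⁅y, k⁆ ∈ Y2 := by
  classical
  set Y := ⁅B, B⁆ with hYdef
  have hBp := t.isPGroup
  have hYM : Y ≤ M := commutator_le.2 fun a ha b hb => t.irr.commutator_mem hBp ha hb
  have hYB : Y ≤ B := hYM.trans t.irr.le
  have hcen : ∀ y ∈ Y, ∀ b ∈ B, b * y = y * b := fun y hy b hb =>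
    mem_centralizer_iff.1 (t.central (hYM hy)) b hb
  have hgB : ∀ {g}, g ∈ H → g ∈ normalizer (B : Set X) := fun hg => t.irr.normB (hHG hg)
  have hgY : ∀ {g}, g ∈ H → ∀ {z}, z ∈ Y → g * z * g⁻¹ ∈ Y := fun {g} hg {z} hz =>
    (mem_normalizer_iff.1 (normalizer_le_comm B B ⟨hgB hg, hgB hg⟩) z).1 hz
  letI : CommGroup Y :=
    { (inferInstance : Group Y) with mul_comm := fun a b => Subtype.ext (hcen b b.2 a (hYB a.2)) }
  let q : Y → Additive (Y ⧸ Y2.subgroupOf Y) := fun z => Additive.ofMul (QuotientGroup.mk z)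
  have hqmul : ∀ z z', q (z * z') = q z + q z' := fun z z' => rfl
  have hq0 : ∀ z, q z = 0 ↔ (z : X) ∈ Y2 := fun z => by
    show Additive.ofMul _ = 0 ↔ _
    rw [ofMul_eq_zero, QuotientGroup.eq_one_iff, mem_subgroupOf]
  let ψ : Y → Additive (Y ⧸ Y2.subgroupOf Y) := fun z => q ⟨k * z * k⁻¹, hgY hk z.2⟩ - q z
  have hψmul : ∀ z z', ψ (z * z') = ψ z + ψ z' := fun z z' => by
    simp only [ψ]
    rw [hqmul, show (⟨k * ((z * z' : Y) : X) * k⁻¹, hgY hk (z * z').2⟩ : Y) =
      ⟨k * z * k⁻¹, hgY hk z.2⟩ * ⟨k * z' * k⁻¹, hgY hk z'.2⟩ from Subtype.ext (by simp [mul_assoc]), hqmul]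
    abel
  have hψ0 : ∀ z : Y, ψ z = 0 ↔ ⁅k, (z : X)⁆ ∈ Y2 := fun z => by
    have e : q ⟨k * z * k⁻¹, hgY hk z.2⟩ = q ⟨⁅k, (z : X)⁆, by
        rw [commutatorElement_def]; exact Y.mul_mem (hgY hk z.2) (Y.inv_mem z.2)⟩ + q z := by
      rw [← hqmul]
      exact congrArg q (Subtype.ext (by simp [commutatorElement_def]))
    simp only [ψ]
    rw [e, add_sub_cancel_right, hq0]
  let cj : ∀ g ∈ H, B → B := fun g hg b => ⟨g * b * g⁻¹, (mem_normalizer_iff.1 (hgB hg) _).1 b.2⟩
  let F : B → B → Additive (Y ⧸ Y2.subgroupOf Y) := fun u v =>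
    q ⟨⁅(u : X), (v : X)⁆, commutator_mem_commutator u.2 v.2⟩
  let F₀ : B → B → Additive (Y ⧸ Y2.subgroupOf Y) := fun u v =>
    ψ ⟨⁅(u : X), (v : X)⁆, commutator_mem_commutator u.2 v.2⟩
  have el : ∀ u u' v : B, (⟨⁅((u * u' : B) : X), (v : X)⁆, commutator_mem_commutator (u * u').2 v.2⟩ : Y) =
      ⟨⁅(u' : X), (v : X)⁆, commutator_mem_commutator u'.2 v.2⟩ *
        ⟨⁅(u : X), (v : X)⁆, commutator_mem_commutator u.2 v.2⟩ := fun u u' v => Subtype.ext (by
    have e1 := hcen _ (commutator_mem_commutator u'.2 v.2) u u.2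
    simp only [Subgroup.coe_mul]
    rw [show ⁅(u : X) * u', (v : X)⁆ = ((u : X) * ⁅(u' : X), (v : X)⁆) * (u : X)⁻¹ * ⁅(u : X), (v : X)⁆ by
      simp only [commutatorElement_def]; group, e1, mul_inv_cancel_right])
  have er : ∀ u v v' : B, (⟨⁅(u : X), ((v * v' : B) : X)⁆, commutator_mem_commutator u.2 (v * v').2⟩ : Y) =
      ⟨⁅(u : X), (v : X)⁆, commutator_mem_commutator u.2 v.2⟩ *
        ⟨⁅(u : X), (v' : X)⁆, commutator_mem_commutator u.2 v'.2⟩ := fun u v v' => Subtype.ext (by
    have e1 := hcen _ (commutator_mem_commutator u.2 v'.2) v v.2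
    simp only [Subgroup.coe_mul]
    rw [show ⁅(u : X), (v : X) * v'⁆ = ⁅(u : X), (v : X)⁆ * (((v : X) * ⁅(u : X), (v' : X)⁆) * (v : X)⁻¹) by
      simp only [commutatorElement_def]; group, e1, mul_inv_cancel_right])
  have hF : Biadd (⊤ : Subgroup B) F :=
    ⟨fun u _ u' _ v _ => by simp only [F]; rw [el, hqmul, add_comm],
      fun u _ v _ v' _ => by simp only [F]; rw [er, hqmul]⟩
  have hF₀ : Biadd (⊤ : Subgroup B) F₀ :=
    ⟨fun u _ u' _ v _ => by simp only [F₀]; rw [el, hψmul, add_comm],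
      fun u _ v _ v' _ => by simp only [F₀]; rw [er, hψmul]⟩
  have hz1 : ∀ u v : B, F (cj k hk u) (cj k hk v) = F u v + F₀ u v := fun u v => by
    simp only [F, F₀, ψ, cj]
    rw [add_sub_cancel]
    exact congrArg q (Subtype.ext (by simp only [commutatorElement_def]; group))
  have hinv : ∀ g, ∀ hg : g ∈ H, ∀ u v : B, F₀ (cj g hg u) (cj g hg v) = F₀ u v := fun g hg u v => by
    set z : Y := ⟨⁅(u : X), (v : X)⁆, commutator_mem_commutator u.2 v.2⟩
    have hw : ⁅g, (z : X)⁆ ∈ Y := by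
      rw [commutatorElement_def]; exact Y.mul_mem (hgY hg z.2) (Y.inv_mem z.2)
    show ψ _ = ψ z
    rw [show (⟨⁅(cj g hg u : X), (cj g hg v : X)⁆, commutator_mem_commutator (cj g hg u).2 (cj g hg v).2⟩ : Y)
        = ⟨⁅g, (z : X)⁆, hw⟩ * z from
      Subtype.ext (by simp only [cj, z, Subgroup.coe_mul, commutatorElement_def]; group), hψmul,
      (hψ0 _).2 (hdrop _ z.2 g hg), zero_add]
  have hskew : ∀ u v : B, F₀ v u = -F₀ u v := fun u v => by
    refine eq_neg_of_add_eq_zero_left ?_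
    simp only [F₀]
    rw [← hψmul, hψ0, show ((⟨⁅(v : X), (u : X)⁆, commutator_mem_commutator v.2 u.2⟩ *
      ⟨⁅(u : X), (v : X)⁆, commutator_mem_commutator u.2 v.2⟩ : Y) : X) = 1 by
        simp only [Subgroup.coe_mul, commutatorElement_def]; group]
    simp [commutatorElement_def]
  have hF1 : ∀ v, F 1 v = 0 ∧ F v 1 = 0 ∧ F₀ 1 v = 0 ∧ F₀ v 1 = 0 := fun v => by
    refine ⟨?_, ?_, ?_, ?_⟩
    · have := hF.left 1 (mem_top _) 1 (mem_top _) v (mem_top _); rwa [one_mul, left_eq_add] at this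
    · have := hF.right v (mem_top _) 1 (mem_top _) 1 (mem_top _); rwa [one_mul, left_eq_add] at this
    · have := hF₀.left 1 (mem_top _) 1 (mem_top _) v (mem_top _); rwa [one_mul, left_eq_add] at this
    · have := hF₀.right v (mem_top _) 1 (mem_top _) 1 (mem_top _); rwa [one_mul, left_eq_add] at this
  -- the radical of the shift and a complement
  let R0 : Subgroup B :=
    { carrier := {r | ∀ b, F₀ r b = 0}
      one_mem' := fun b => (hF1 b).2.2.1
      mul_mem' := fun {a c} ha hc b => by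
        rw [hF₀.left a (mem_top _) c (mem_top _) b (mem_top _), ha b, hc b, add_zero]
      inv_mem' := fun {a} ha b => by
        have := hF₀.left a⁻¹ (mem_top _) a (mem_top _) b (mem_top _)
        rw [inv_mul_cancel, (hF1 b).2.2.1, ha b, add_zero] at this
        exact this.symm }
  have hMR : M ≤ R0.map B.subtype := fun m hm => by
    refine ⟨⟨m, t.irr.le hm⟩, fun b => ?_, rfl⟩
    refine (hψ0 _).2 ?_
    have e : ⁅m, (b : X)⁆ = 1 := commutatorElement_eq_one_iff_mul_comm.2
      (mem_centralizer_iff.1 (t.central hm) b b.2).symm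
    show ⁅k, ⁅m, (b : X)⁆⁆ ∈ Y2
    rw [e, show ⁅k, (1 : X)⁆ = 1 by simp [commutatorElement_def]]
    exact Y2.one_mem
  have hRn : H ≤ normalizer (R0.map B.subtype : Set X) := le_normalizer_of_conj_mem fun g hg x hx => by
    obtain ⟨r, hr, rfl⟩ := hx
    refine ⟨cj g hg r, fun b => ?_, rfl⟩
    have e : cj g hg (cj g⁻¹ (H.inv_mem hg) b) = b := Subtype.ext (by simp [cj, mul_assoc])
    rw [← e, hinv g hg]
    exact hr _
  obtain ⟨T, hMT, hTB, hHT, hTR, hTRB⟩ := exists_complement t.irr hBp (t.ne hHG) hHG hGH hAH hMR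
    (map_subtype_le _) hRn
  set T0 := T.subgroupOf B with hT0
  have hdec : ∀ b : B, ∃ s ∈ T0, ∃ r ∈ R0, b = s * r := by
    intro b
    have e : T0 ⊔ R0 = ⊤ := by
      apply map_injective B.subtype_injective
      rw [Subgroup.map_sup, map_subgroupOf_eq_of_le hTB, hTRB, ← MonoidHom.range_eq_map, range_subtype]
    have hn : R0 ≤ normalizer (T0 : Set B) := le_normalizer_of_conj_mem fun r _ x hx => by
      have hx' : (x : X) ∈ T := hx
      have := T.mul_mem (hMT (t.irr.commutator_mem hBp r.2 x.2)) hx'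
      show ((r * x * r⁻¹ : B) : X) ∈ T
      rwa [show ⁅(r : X), (x : X)⁆ * x = ((r * x * r⁻¹ : B) : X) by
        simp only [Subgroup.coe_mul, Subgroup.coe_inv, commutatorElement_def]; group] at this
    have hb : b ∈ ((T0 : Set B) * (R0 : Set B)) := by
      rw [← coe_mul_of_right_le_normalizer_left T0 R0 hn, e]; exact mem_top b
    obtain ⟨s, hs, r, hr, rfl⟩ := hb
    exact ⟨s, hs, r, hr, rfl⟩
  have hrad : ∀ u ∈ T0, (∀ v ∈ T0, F₀ u v = 0) → u ∈ R0 := fun u _ hu b => by
    obtain ⟨s, hs, r, hr, rfl⟩ := hdec b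
    rw [hF₀.right u (mem_top _) s (mem_top _) r (mem_top _), hu s hs, hskew, hr u, neg_zero, add_zero]
  have hRT : ∀ u ∈ T0, u ∈ R0 → (u : X) ∈ M := fun u hu hr => by
    rw [← hTR]; exact ⟨hu, mem_map_of_mem _ hr⟩
  let L : B → B := fun u => cj k hk u * u⁻¹
  have hLu : ∀ u : B, (L u : X) = ⁅k, (u : X)⁆ := fun u => rfl
  have hLL : ∀ u : B, L (L (L u)) = 1 := fun u => Subtype.ext (by
    rw [hLu, hLu, hLu, hcube u u.2, Subgroup.coe_one])
  have hL' : ∀ u : B, L u * u = cj k hk u := fun u => inv_mul_cancel_right _ _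
  have hW : ∀ m : ℕ, m.Coprime p → ∀ w : Additive (Y ⧸ Y2.subgroupOf Y), m • w = 0 → w = 0 := by
    intro m hm w hw
    apply Additive.toMul.injective
    exact eq_one_of_pow_of_isPGroup (((hBp.to_le hYB).to_quotient (Y2.subgroupOf Y))) hm
      (congrArg Additive.toMul hw)
  have h5 := h.hp5
  have hzero : ∀ u ∈ T0, ∀ v ∈ T0, F₀ u v = 0 := fun u hu v hv => by
    refine shift_eq_zero (T := T0) ⟨fun a _ b _ c _ => hF.left a (mem_top _) b (mem_top _) c (mem_top _),
        fun a _ b _ c _ => hF.right a (mem_top _) b (mem_top _) c (mem_top _)⟩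
      ⟨fun a _ b _ c _ => hF₀.left a (mem_top _) b (mem_top _) c (mem_top _),
        fun a _ b _ c _ => hF₀.right a (mem_top _) b (mem_top _) c (mem_top _)⟩ (L := L) ?_ ?_ ?_ ?_ ?_ ?_ ?_ hu hv
    · intro a ha
      exact T0.mul_mem ((mem_normalizer_iff.1 (hHT hk) _).1 ha) (T0.inv_mem ha)
    · intro a _ b _
      rw [hL', hL', hz1]
    · intro a _ b _
      rw [hL', hL', hinv k hk]
    · intro a _ b _
      rw [hLL, hLL]
      exact ⟨(hF1 b).1, (hF1 a).2.1, (hF1 b).2.2.1, (hF1 a).2.2.2⟩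
    · intro a ha h0 b _
      have hm := t.central (hRT a ha (hrad a ha h0))
      have e1 : ⁅(a : X), (b : X)⁆ = 1 := commutatorElement_eq_one_iff_mul_comm.2
        (mem_centralizer_iff.1 hm b b.2).symm
      refine ⟨(hq0 _).2 (by show ⁅(a : X), (b : X)⁆ ∈ Y2; rw [e1]; exact Y2.one_mem), (hq0 _).2 ?_, ?_⟩
      · show ⁅(b : X), (a : X)⁆ ∈ Y2
        rw [← commutatorElement_inv, e1, inv_one]; exact Y2.one_mem
      · rw [hskew, hrad a ha h0 b, neg_zero]
    · exact fun w hw => hW 2 (coprime_of_lt (by omega) (by omega)) w (by rw [two_nsmul]; exact hw)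
    · exact fun w hw => hW 3 (coprime_of_lt (by omega) (by omega)) w (by rw [succ_nsmul, two_nsmul]; exact hw)
  have hall : ∀ u v, F₀ u v = 0 := by
    intro u v
    obtain ⟨s, hs, r, hr, rfl⟩ := hdec u
    rw [hF₀.left s (mem_top _) r (mem_top _) v (mem_top _), hr v, add_zero,
      hrad s hs (hzero s hs) v]
  -- back to the elements
  let E : Subgroup Y :=
    { carrier := {z | ψ z = 0}
      one_mem' := (hψ0 1).2 (by simp [commutatorElement_def])
      mul_mem' := fun {a b} ha hb => by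
        show ψ (a * b) = 0
        rw [hψmul, show ψ a = 0 from ha, show ψ b = 0 from hb, add_zero]
      inv_mem' := fun {a} ha => by
        show ψ a⁻¹ = 0
        have := hψmul a⁻¹ a
        rw [inv_mul_cancel, show ψ a = 0 from ha, add_zero, (hψ0 1).2 (by simp [commutatorElement_def])] at this
        exact this.symm }
  have hE : Y ≤ E.map Y.subtype := commutator_le.2 fun a ha b hb =>
    ⟨⟨⁅a, b⁆, commutator_mem_commutator ha hb⟩, hall ⟨a, ha⟩ ⟨b, hb⟩, rfl⟩
  intro y hy
  obtain ⟨z, hz, rfl⟩ := hE hy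
  show ⁅(z : X), k⁆ ∈ Y2
  rw [← commutatorElement_inv]
  exact Y2.inv_mem ((hψ0 z).1 hz)

/-- The generators over a subgroup containing the tests lie in the core. -/
theorem Setup.mem_le_core (h : Setup p G A) (hsc : G ⊓ centralizer (coreOf p G : Set X) ≤ coreOf p G)
    {S K : Subgroup X} (hS : bPlus p G A ≤ S) (hK : Mem (invInter p G A) S K) : K ≤ coreOf p G := by
  suffices key : ∀ n, ∀ H : Subgroup X, Nat.card H < n → H ≤ G → G ≤ normalizer (H : Set X) →
      A ≤ normalizer (H : Set X) → K ≤ H → K ≤ coreOf p G from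
    key _ G (Nat.lt_succ_self _) le_rfl le_normalizer h.hAn (hK.le.trans h.invInter_le)
  intro n
  induction n with
  | zero => intro H hn; omega
  | succ n ih =>
    intro H hn hHG hGH hAH hKH
    by_cases hHp : IsPGroup p H
    · exact hKH.trans (CfsgLib.PLocal.ZJCoprime.le_pCore_map hHG hGH hHp)
    obtain ⟨B, M, t⟩ := exists_test hsc h.hAn hHG hGH hAH hHp
    have hBp := t.isPGroup
    have hKB : ∀ k ∈ K, ∀ b ∈ B, ⁅k, b⁆ ∈ B ∧ ⁅k, b⁆ ∈ K := fun k hk b hb => by
      refine ⟨?_, ?_⟩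
      · rw [commutatorElement_def]
        exact B.mul_mem ((mem_normalizer_iff.1 (t.irr.normB (hHG (hKH hk))) b).1 hb) (B.inv_mem hb)
      · rw [show ⁅k, b⁆ = k * (b * k⁻¹ * b⁻¹) by simp only [commutatorElement_def]; group]
        exact K.mul_mem hk ((mem_normalizer_iff.1 (hK.normalized (hS (t.le_bPlus hb))) _).1 (K.inv_mem hk))
    have smaller : ∀ H' : Subgroup X, H' < H → G ≤ normalizer (H' : Set X) → A ≤ normalizer (H' : Set X) →
        K ≤ H' → K ≤ coreOf p G := fun H' hlt h1 h2 h3 =>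
      ih H' (by
        have : Nat.card H' < Nat.card H :=
          Set.Finite.card_lt_card (Set.toFinite _) (SetLike.coe_ssubset_coe.2 hlt)
        omega) (hlt.le.trans hHG) h1 h2 h3
    have hnY : normalizer (B : Set X) ≤ normalizer ((⁅B, B⁆ : Subgroup X) : Set X) :=
      (le_inf le_rfl le_rfl).trans (normalizer_le_comm B B)
    by_cases hY : H ≤ centralizer ((⁅B, B⁆ : Subgroup X) : Set X)
    · refine smaller (H ⊓ actTriv B M) (lt_of_le_of_ne inf_le_left fun e => t.not_triv (e ▸ inf_le_right))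
        ((le_inf hGH ((le_inf t.irr.normB t.irr.normM).trans normalizer_le_actTriv)).trans
          inf_normalizer_le_normalizer_inf)
        ((le_inf hAH ((le_inf t.irr.normB' t.irr.normM').trans normalizer_le_actTriv)).trans
          inf_normalizer_le_normalizer_inf) fun k hk => ⟨hKH hk, t.irr.normB (hHG (hKH hk)),
            t.irr.normM (hHG (hKH hk)), ?_⟩
      refine h.quad_section t.irr hBp (hK.le hk) fun b hb => ?_
      have hz : ∀ k' ∈ K, ⁅k', b⁆ ∈ zIn K := by
        refine hK.quad b (hS (t.le_bPlus hb)) fun k' hk' => ?_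
        have h1 := hKB k' hk' b hb
        refine ⟨(hKB _ h1.2 b hb).2, mem_centralizer_iff.2 fun c hc => ?_⟩
        exact (mem_centralizer_iff.1 (hY (hKH hc)) _ (commutator_mem_commutator h1.1 hb)).symm
      have hc := mem_centralizer_iff.1 (hz k hk).2 k hk
      rw [show ⁅⁅b, k⁆, k⁆ = 1 from commutatorElement_eq_one_iff_mul_comm.2 (by
        rw [← commutatorElement_inv]; exact (show Commute k ⁅k, b⁆ from hc).inv_right.symm.eq)]
      exact M.one_mem
    · set Y := ⁅B, B⁆ with hYdef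
      set Y1 := ⁅Y, H⁆ with hY1def
      set Y2 := ⁅Y1, H⁆ with hY2def
      have hYM : Y ≤ M := commutator_le.2 fun a ha b hb => t.irr.commutator_mem hBp ha hb
      have hnH : H ≤ normalizer (Y : Set X) := (hHG.trans t.irr.normB).trans hnY
      have hY1Y : Y1 ≤ Y := CfsgLib.PGroups.Uniserial.comm_le_self hnH
      have hnH1 : H ≤ normalizer (Y1 : Set X) := (le_inf hnH le_normalizer).trans (normalizer_le_comm Y H)
      have hnH2 : H ≤ normalizer (Y2 : Set X) := (le_inf hnH1 le_normalizer).trans (normalizer_le_comm Y1 H)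
      have hG2 : ∀ {C : Subgroup X}, C ≤ normalizer (B : Set X) → C ≤ normalizer (H : Set X) →
          C ≤ normalizer (Y2 : Set X) := fun hB hH =>
        (le_inf ((le_inf (hB.trans hnY) hH).trans (normalizer_le_comm Y H)) hH).trans (normalizer_le_comm Y1 H)
      refine smaller (H ⊓ actTriv Y Y2) (lt_of_le_of_ne inf_le_left fun e => hY ?_)
        ((le_inf hGH ((le_inf (t.irr.normB.trans hnY) (hG2 t.irr.normB hGH)).trans
          normalizer_le_actTriv)).trans inf_normalizer_le_normalizer_inf)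
        ((le_inf hAH ((le_inf (t.irr.normB'.trans hnY) (hG2 t.irr.normB' hAH)).trans
          normalizer_le_actTriv)).trans inf_normalizer_le_normalizer_inf)
        fun k hk => ⟨hKH hk, hnH (hKH hk), hnH2 (hKH hk),
          t.shift h hHG hGH hAH (hKH hk) (fun b hb => ?_) (hnH2 (hKH hk)) fun z hz g hg => ?_⟩
      · -- the commutator series is strict
        have hact : H ≤ actTriv Y Y2 := e ▸ inf_le_right
        have h12 : Y1 ≤ Y2 := commutator_le.2 fun y hy g hg => (hact hg).2.2 y hy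
        have hbot : Y1 = ⊥ := by
          by_contra hne
          obtain ⟨P⟩ := (Sylow.nonempty : Nonempty (Sylow p H))
          set P0 := (P : Subgroup H).map H.subtype
          have hlt := CfsgLib.PGroups.Uniserial.comm_lt (hBp.to_le (hYM.trans t.irr.le))
            (P.isPGroup'.map H.subtype) ((map_subtype_le _).trans hnH) hY1Y ((map_subtype_le _).trans hnH1) hne
          refine hlt.not_ge (h12.trans (commutator_le.2 fun y hy g hg => ?_))
          obtain ⟨x, hx, c, hc, e'⟩ := CfsgLib.Transfer.exists_mul_mem_pResidual P ⟨g, hg⟩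
          have hcm : (c : X) * y = y * c := by
            have hle : Cfsg.pResidual p H ≤ (centralizer ({y} : Set X)).comap H.subtype :=
              CfsgLib.Transfer.pResidual_le_iff.2 fun d hd => mem_centralizer_iff.2 (by
                rintro _ rfl
                exact (t.resid d d.2 (by rwa [Subgroup.orderOf_coe]) _ (hYM (hY1Y hy))).symm)
            exact (mem_centralizer_iff.1 (hle hc) y rfl).symm
          have eg : g = (x : X) * c := congrArg Subtype.val e'
          rw [show ⁅y, g⁆ = ⁅y, (x : X)⁆ by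
            rw [eg, show ⁅y, (x : X) * c⁆ = ⁅y, (x : X)⁆ * ((x : X) * (y * c * y⁻¹ * (c : X)⁻¹) * (x : X)⁻¹) by
              simp only [commutatorElement_def]; group, ← hcm, mul_inv_cancel_right, mul_inv_cancel, mul_one,
              mul_inv_cancel, mul_one]]
          exact commutator_mem_commutator hy (mem_map_of_mem H.subtype hx)
        intro g hg
        rw [mem_centralizer_iff]
        intro y hy
        have := commutator_mem_commutator (show y ∈ Y from hy) hg
        rw [← hY1def, hbot, mem_bot, commutatorElement_eq_one_iff_mul_comm] at this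
        exact this
      · have h1 := hKB k hk b hb
        have h2 := hK.classTwo k hk _ h1.2
        exact commutatorElement_eq_one_iff_mul_comm.2 (mem_centralizer_iff.1 h2.2 k hk)
      · have hw : ⁅g, z⁆ ∈ Y1 := by
          rw [← commutatorElement_inv]; exact Y1.inv_mem (commutator_mem_commutator hz hg)
        rw [← commutatorElement_inv]
        exact Y2.inv_mem (commutator_mem_commutator hw (hKH hk))

end CfsgLib.Flavell
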