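import Cfsg.Agent.Lib.Flavell.KL.Reduce
import Cfsg.Agent.Lib.PLocal.ZJCoprime.Section

/-!
Owner: helper26 (S1930). The intersection of the invariant Sylow subgroups, and quadratic action on an irreducible
section of a group with coprime operators.
-/

set_option autoImplicit false
set_option linter.unusedSectionVars false

namespace CfsgLib.Flavell

open Cfsg Subgroup CfsgLib.PLocal.ZJCoprime CfsgLib.QuadPair
open scoped commutatorElement Pointwise

universe u

variable {p : ℕ} [Fact p.Prime] {X : Type u} [Group X] [Finite X] {G A B M : Subgroup X}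

/-- The standing hypotheses. -/
structure Setup (p : ℕ) (G A : Subgroup X) : Prop where
  hp5 : 5 ≤ p
  hAn : A ≤ normalizer (G : Set X)
  hcop : (Nat.card A).Coprime (Nat.card G)

/-- The `p`-core, inside the ambient group. -/
def coreOf (p : ℕ) (G : Subgroup X) : Subgroup X := (Cfsg.pCore p G).map G.subtype

/-- The intersection of the invariant Sylow subgroups. -/
def invInter (p : ℕ) (G A : Subgroup X) : Subgroup X :=
  ⨅ S : {S : Sylow p G // A ≤ normalizer ((S : Subgroup G).map G.subtype : Set X)},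
    ((S : Sylow p G) : Subgroup G).map G.subtype

theorem mem_invInter {x : X} : x ∈ invInter p G A ↔ ∀ S : Sylow p G,
    A ≤ normalizer ((S : Subgroup G).map G.subtype : Set X) → x ∈ (S : Subgroup G).map G.subtype := by
  simp [invInter, mem_iInf]

theorem coreOf_le : coreOf p G ≤ G := map_subtype_le _

theorem coreOf_isPGroup : IsPGroup p (coreOf p G) := (CfsgLib.Core.isPGroup_pCore p _).map _

theorem normalizer_le_coreOf : normalizer (G : Set X) ≤ normalizer (coreOf p G : Set X) :=
  normalizer_le_pCore_map G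

theorem coreOf_le_invInter : coreOf p G ≤ invInter p G A := fun _ hx => mem_invInter.2 fun S _ =>
  map_mono ((CfsgLib.Core.isPGroup_pCore p _).le_sylow_of_normal S) hx

theorem Setup.exists_sylow (h : Setup p G A) :
    ∃ S : Sylow p G, A ≤ normalizer ((S : Subgroup G).map G.subtype : Set X) :=
  CfsgLib.Core.exists_invariant_sylow h.hAn h.hcop (solvable_or h.hcop) p

theorem Setup.invInter_le (h : Setup p G A) : invInter p G A ≤ G := fun _ hx => by
  obtain ⟨S, hS⟩ := h.exists_sylow
  exact map_subtype_le _ (mem_invInter.1 hx S hS)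

theorem Setup.invInter_isPGroup (h : Setup p G A) : IsPGroup p (invInter p G A) := by
  obtain ⟨S, hS⟩ := h.exists_sylow
  exact (S.isPGroup'.map G.subtype).to_le fun x hx => mem_invInter.1 hx S hS

theorem le_normalizer_of_conj_mem {K L : Subgroup X} (h : ∀ a ∈ K, ∀ x ∈ L, a * x * a⁻¹ ∈ L) :
    K ≤ normalizer (L : Set X) := fun a ha => by
  rw [mem_normalizer_iff]
  refine fun x => ⟨h a ha x, fun hx => ?_⟩
  simpa [mul_assoc] using h a⁻¹ (K.inv_mem ha) _ hx

theorem Setup.le_normalizer_invInter (h : Setup p G A) : A ≤ normalizer (invInter p G A : Set X) :=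
  le_normalizer_of_conj_mem fun _ ha x hx => mem_invInter.2 fun S hS =>
    (mem_normalizer_iff.1 (hS ha) x).1 (mem_invInter.1 hx S hS)

theorem Setup.centralizing_le_normalizer_invInter (_h : Setup p G A) :
    G ⊓ centralizer (A : Set X) ≤ normalizer (invInter p G A : Set X) :=
  le_normalizer_of_conj_mem fun c hc x hx => mem_invInter.2 fun S hS => by
    have hc' : c⁻¹ ∈ G ⊓ centralizer (A : Set X) := inv_mem hc
    have hS' : A ≤ normalizer ((((⟨c⁻¹, hc'.1⟩ : G) • S : Sylow p G) : Subgroup G).map G.subtype : Set X) := by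
      rw [← CfsgLib.Core.sylow_map_conj_smul]
      refine le_normalizer_of_conj_mem fun a ha y hy => ?_
      rw [CfsgLib.Core.mem_conj_smul_iff] at hy ⊢
      have e : Commute a c := mem_centralizer_iff.1 hc.2 a ha
      have := (mem_normalizer_iff.1 (hS ha) _).1 hy
      convert this using 1
      simp only [inv_inv]
      calc c * (a * y * a⁻¹) * c⁻¹ = (c * a) * y * (a⁻¹ * c⁻¹) := by group
        _ = (a * c) * y * (c⁻¹ * a⁻¹) := by rw [e.eq, e.inv_inv.eq]
        _ = _ := by group
    have := mem_invInter.1 hx _ hS'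
    rw [← CfsgLib.Core.sylow_map_conj_smul, CfsgLib.Core.mem_conj_smul_iff] at this
    simpa using this

/-! ### Elements stabilising a section -/

/-- The elements normalising `B` and `M` and acting trivially on `B / M`. -/
def actTriv (B M : Subgroup X) : Subgroup X where
  carrier := {g | g ∈ normalizer (B : Set X) ∧ g ∈ normalizer (M : Set X) ∧ ∀ b ∈ B, ⁅b, g⁆ ∈ M}
  one_mem' := ⟨one_mem _, one_mem _, fun b _ => by simp [commutatorElement_def]⟩
  mul_mem' := fun {g k} hg hk => ⟨mul_mem hg.1 hk.1, mul_mem hg.2.1 hk.2.1, fun b hb => by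
    rw [show ⁅b, g * k⁆ = ⁅b, g⁆ * (g * ⁅b, k⁆ * g⁻¹) by simp only [commutatorElement_def]; group]
    exact M.mul_mem (hg.2.2 b hb) ((mem_normalizer_iff.1 hg.2.1 _).1 (hk.2.2 b hb))⟩
  inv_mem' := fun {g} hg => ⟨inv_mem hg.1, inv_mem hg.2.1, fun b hb => by
    rw [show ⁅b, g⁻¹⁆ = g⁻¹ * ⁅b, g⁆⁻¹ * g⁻¹⁻¹ by simp only [commutatorElement_def]; group]
    exact (mem_normalizer_iff.1 (inv_mem hg.2.1) _).1 (M.inv_mem (hg.2.2 b hb))⟩

theorem mem_actTriv {g : X} : g ∈ actTriv B M ↔
    g ∈ normalizer (B : Set X) ∧ g ∈ normalizer (M : Set X) ∧ ∀ b ∈ B, ⁅b, g⁆ ∈ M := Iff.rfl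

theorem normalizer_le_actTriv :
    normalizer (B : Set X) ⊓ normalizer (M : Set X) ≤ normalizer (actTriv B M : Set X) :=
  le_normalizer_of_conj_mem fun a ha g hg => ⟨mul_mem (mul_mem ha.1 hg.1) (inv_mem ha.1),
    mul_mem (mul_mem ha.2 hg.2.1) (inv_mem ha.2), fun b hb => by
      rw [show ⁅b, a * g * a⁻¹⁆ = a * ⁅a⁻¹ * b * a, g⁆ * a⁻¹ by simp only [commutatorElement_def]; group]
      exact (mem_normalizer_iff.1 ha.2 _).1 (hg.2.2 _ ((mem_normalizer_iff''.1 ha.1 b).1 hb))⟩

/-! ### Irreducible sections -/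

/-- No subgroup normalised by `G` and `A` lies strictly between. -/
structure Irr (G A B M : Subgroup X) : Prop where
  le : M ≤ B
  normB : G ≤ normalizer (B : Set X)
  normM : G ≤ normalizer (M : Set X)
  normB' : A ≤ normalizer (B : Set X)
  normM' : A ≤ normalizer (M : Set X)
  irr : ∀ N, M ≤ N → N ≤ B → G ≤ normalizer (N : Set X) → A ≤ normalizer (N : Set X) → N = M ∨ N = B

theorem normalizer_le_frattini_map (B : Subgroup X) :
    normalizer (B : Set X) ≤ normalizer ((frattini B).map B.subtype : Set X) := by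
  intro g hg
  rw [mem_normalizer_iff_map_conj_eq] at hg ⊢
  let e : B ≃* B := (B.equivMapOfInjective (MulAut.conj g).toMonoidHom (MulAut.conj g).injective).trans
    (MulEquiv.subgroupCongr hg)
  show Subgroup.map (MulAut.conj g).toMonoidHom ((frattini B).map B.subtype) = _
  rw [Subgroup.map_map, show (MulAut.conj g).toMonoidHom.comp B.subtype = B.subtype.comp e.toMonoidHom from
      MonoidHom.ext fun _ => rfl, ← Subgroup.map_map, Subgroup.characteristic_iff_map_eq.1 inferInstance e]

theorem Irr.frattini_le (h : Irr G A B M) : (frattini B).map B.subtype ≤ M := by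
  have hn : ∀ {K : Subgroup X}, K ≤ normalizer (B : Set X) → K ≤ normalizer (M : Set X) →
      K ≤ normalizer ((M ⊔ (frattini B).map B.subtype : Subgroup X) : Set X) := fun hB hM =>
    (le_inf hM (hB.trans (normalizer_le_frattini_map B))).trans (normalizer_inf_normalizer_le_normalizer_sup M _)
  rcases h.irr (M ⊔ (frattini B).map B.subtype) le_sup_left (sup_le h.le (map_subtype_le _))
    (hn h.normB h.normM) (hn h.normB' h.normM') with e | e
  · exact le_sup_right.trans e.le
  · have hM : M = B := by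
      refine le_antisymm h.le ?_
      have e' : M.subgroupOf B ⊔ frattini B = ⊤ := by
        apply map_injective B.subtype_injective
        rw [Subgroup.map_sup, map_subgroupOf_eq_of_le h.le, e, ← MonoidHom.range_eq_map, range_subtype]
      exact subgroupOf_eq_top.1 (frattini_nongenerating e')
    exact (map_subtype_le _).trans hM.ge

theorem Irr.commutator_mem (h : Irr G A B M) (hBp : IsPGroup p B) {a b : X} (ha : a ∈ B) (hb : b ∈ B) :
    ⁅a, b⁆ ∈ M := by
  refine h.frattini_le ⟨⁅(⟨a, ha⟩ : B), (⟨b, hb⟩ : B)⁆, ?_, map_commutatorElement B.subtype _ _⟩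
  exact CfsgLib.PGroups.commutator_le_frattini' hBp (commutator_mem_commutator (mem_top _) (mem_top _))

theorem Irr.pow_mem (h : Irr G A B M) (hBp : IsPGroup p B) {a : X} (ha : a ∈ B) : a ^ p ∈ M :=
  h.frattini_le ⟨⟨a, ha⟩ ^ p, CfsgLib.PGroups.pow_mem_frattini hBp _, rfl⟩

/-- The representation on an elementary section. -/
theorem section_rep {Γ : Subgroup X} (hMB : M ≤ B) (hB : Γ ≤ normalizer (B : Set X))
    (hM : Γ ≤ normalizer (M : Set X)) (hcomm : ∀ a ∈ B, ∀ b ∈ B, ⁅a, b⁆ ∈ M) (hpow : ∀ a ∈ B, a ^ p ∈ M) :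
    ∃ (n : ℕ) (ρ : Γ →* LinearMap.GeneralLinearGroup (ZMod p) (Fin n → ZMod p))
      (π : B →* Multiplicative (Fin n → ZMod p)), Function.Surjective π ∧ (∀ b : B, π b = 1 ↔ (b : X) ∈ M) ∧
      ∀ (g : Γ) (b : B), (ρ g : Module.End (ZMod p) (Fin n → ZMod p)) (π b).toAdd
        = (π ⟨(g : X) * b * (g : X)⁻¹, (mem_normalizer_iff.1 (hB g.2) _).1 b.2⟩).toAdd := by
  classical
  haveI hn : (M.subgroupOf B).Normal := ⟨fun m hm b => by
    rw [mem_subgroupOf] at hm ⊢
    have h1 := hcomm b b.2 (m : X) m.2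
    have := M.mul_mem h1 hm
    rwa [show ⁅(b : X), (m : X)⁆ * m = ((b * m * b⁻¹ : B) : X) by
      simp only [Subgroup.coe_mul, Subgroup.coe_inv, commutatorElement_def]; group] at this⟩
  letI : CommGroup (B ⧸ M.subgroupOf B) :=
    { (inferInstance : Group (B ⧸ M.subgroupOf B)) with
      mul_comm := fun a b => by
        induction a using QuotientGroup.induction_on with
        | _ a =>
        induction b using QuotientGroup.induction_on with
        | _ b =>
        rw [← commutatorElement_eq_one_iff_mul_comm, ← QuotientGroup.mk'_apply, ← QuotientGroup.mk'_apply,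
          ← map_commutatorElement, QuotientGroup.mk'_apply, QuotientGroup.eq_one_iff, mem_subgroupOf]
        show ⁅(a : X), (b : X)⁆ ∈ M
        exact hcomm a a.2 b b.2 }
  obtain ⟨n, ⟨e⟩⟩ := exists_coords (p := p) (Q := Additive (B ⧸ M.subgroupOf B)) (fun x => by
      apply Additive.toMul.injective
      show x.toMul ^ p = 1
      induction x.toMul using QuotientGroup.induction_on with
      | _ z =>
        rw [← QuotientGroup.mk_pow, QuotientGroup.eq_one_iff, mem_subgroupOf]
        exact hpow z z.2)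
  let π : B →* Multiplicative (Fin n → ZMod p) :=
    MonoidHom.mk' (fun b => Multiplicative.ofAdd (e (Additive.ofMul (QuotientGroup.mk b : B ⧸ M.subgroupOf B))))
      (fun a b => by rw [QuotientGroup.mk_mul, ofMul_mul, map_add, ofAdd_add])
  have hπ : Function.Surjective π := fun v => by
    obtain ⟨b, hb⟩ := QuotientGroup.mk_surjective (Additive.toMul (e.symm v.toAdd))
    refine ⟨b, ?_⟩
    show Multiplicative.ofAdd (e (Additive.ofMul (QuotientGroup.mk b))) = v
    rw [hb, ofMul_toMul, e.apply_symm_apply, ofAdd_toAdd]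
  have hker : ∀ b : B, π b = 1 ↔ (b : X) ∈ M := fun b => by
    rw [← mem_subgroupOf, ← QuotientGroup.eq_one_iff]
    show Multiplicative.ofAdd (e _) = 1 ↔ _
    rw [ofAdd_eq_one, EmbeddingLike.map_eq_zero_iff, ofMul_eq_zero]
  let c : Γ → (B →* B) := fun g =>
    ((MulAut.conj (g : X)).toMonoidHom.comp B.subtype).codRestrict B fun b =>
      (mem_normalizer_iff.1 (hB g.2) _).1 b.2
  have hc : ∀ g, π.ker ≤ (π.comp (c g)).ker := fun g b hb => by
    rw [MonoidHom.mem_ker, hker] at hb
    rw [MonoidHom.mem_ker, MonoidHom.comp_apply, hker]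
    exact (mem_normalizer_iff.1 (hM g.2) _).1 hb
  let L : Γ → Module.End (ZMod p) (Fin n → ZMod p) := fun g => AddMonoidHom.toZModLinearMap p
    (MonoidHom.toAdditiveLeft (α := Multiplicative (Fin n → ZMod p))
      (MonoidHom.liftOfSurjective π hπ ⟨π.comp (c g), hc g⟩) :
      Additive (Multiplicative (Fin n → ZMod p)) →+ (Fin n → ZMod p))
  have hL : ∀ g (b : B), L g (π b).toAdd = (π (c g b)).toAdd := fun g b =>
    congrArg Multiplicative.toAdd (MonoidHom.liftOfRightInverse_comp_apply π _ _ ⟨π.comp (c g), hc g⟩ b)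
  have hext : ∀ {f f' : Module.End (ZMod p) (Fin n → ZMod p)},
      (∀ b, f (π b).toAdd = f' (π b).toAdd) → f = f' := fun h => LinearMap.ext fun v => by
    obtain ⟨b, hb⟩ := hπ (Multiplicative.ofAdd v)
    have := h b
    rwa [hb] at this
  let f : Γ →* Module.End (ZMod p) (Fin n → ZMod p) :=
    { toFun := L
      map_one' := hext fun b => by
        rw [hL]
        exact congrArg (fun z => (π z).toAdd) (Subtype.ext (by simp [c]))
      map_mul' := fun g k => hext fun b => by
        rw [hL, Module.End.mul_apply, hL, hL]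
        exact congrArg (fun z => (π z).toAdd) (Subtype.ext (by simp [c, mul_assoc])) }
  exact ⟨n, f.toHomUnits, π, hπ, hker, fun g b => hL g b⟩

/-- Quadratic elements of `invInter` act trivially on an irreducible section. -/
theorem Setup.quad_section (h : Setup p G A) (hi : Irr G A B M) (hBp : IsPGroup p B) {x : X}
    (hx : x ∈ invInter p G A) (hq : ∀ b ∈ B, ⁅⁅b, x⁆, x⁆ ∈ M) : ∀ b ∈ B, ⁅b, x⁆ ∈ M := by
  classical
  obtain ⟨n, ρ, π, hπ, hker, hρ⟩ := section_rep (Γ := G ⊔ A) hi.le (sup_le hi.normB hi.normB')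
    (sup_le hi.normM hi.normM') (fun a ha b hb => hi.commutator_mem hBp ha hb) fun a ha => hi.pow_mem hBp ha
  haveI := finite_gl (p := p) (V := Fin n → ZMod p)
  set G0 := G.subgroupOf (G ⊔ A : Subgroup X) with hG0
  set A0 := A.subgroupOf (G ⊔ A : Subgroup X) with hA0
  set P0 := (invInter p G A).subgroupOf (G ⊔ A : Subgroup X) with hP0
  have hxΓ : x ∈ (G ⊔ A : Subgroup X) := mem_sup_left (h.invInter_le hx)
  set x0 : (G ⊔ A : Subgroup X) := ⟨x, hxΓ⟩
  set ξ := op (ρ x0) with hξ
  have hξb : ∀ b : B, ξ (π b).toAdd = (π ⟨⁅x, (b : X)⁆, by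
      rw [commutatorElement_def]
      exact B.mul_mem ((mem_normalizer_iff.1 (sup_le hi.normB hi.normB' hxΓ) _).1 b.2) (B.inv_mem b.2)⟩).toAdd :=
    fun b => by
      rw [hξ, LinearMap.sub_apply, Module.End.one_apply, hρ, sub_eq_iff_eq_add, ← toAdd_mul, ← map_mul]
      exact congrArg (fun c => (π c).toAdd) (Subtype.ext (by simp [x0, commutatorElement_def]))
  have hzero : ∀ b : B, ξ (π b).toAdd = 0 ↔ ⁅(b : X), x⁆ ∈ M := fun b => by
    rw [hξb, toAdd_eq_zero, hker]
    show ⁅x, (b : X)⁆ ∈ M ↔ _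
    rw [← commutatorElement_inv, M.inv_mem_iff]
  have hξξ : ξ * ξ = 0 := LinearMap.ext fun v => by
    obtain ⟨b, hb⟩ := hπ (Multiplicative.ofAdd v)
    have h1 : v = (π b).toAdd := by rw [hb]; rfl
    have hc : ⁅(b : X), x⁆ ∈ B := by
      rw [show ⁅(b : X), x⁆ = (b : X) * (x * (b : X)⁻¹ * x⁻¹) by simp only [commutatorElement_def]; group]
      exact B.mul_mem b.2 ((mem_normalizer_iff.1 (sup_le hi.normB hi.normB' hxΓ) _).1 (B.inv_mem b.2))
    have h2 := (hzero ⟨_, hc⟩).2 (hq b b.2)
    rw [h1, Module.End.mul_apply, hξb, LinearMap.zero_apply]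
    have e : (π ⟨⁅(b : X), x⁆, hc⟩)⁻¹ = π ⟨⁅x, (b : X)⁆, by rw [← commutatorElement_inv]; exact B.inv_mem hc⟩ := by
      rw [← map_inv]
      exact congrArg π (Subtype.ext (commutatorElement_inv _ _))
    rw [← e, toAdd_inv, map_neg, h2, neg_zero]
  have hnorm : ∀ {S T : Subgroup X}, S ≤ normalizer (T : Set X) →
      S.subgroupOf (G ⊔ A : Subgroup X) ≤ normalizer (T.subgroupOf (G ⊔ A : Subgroup X) : Set (G ⊔ A : Subgroup X)) :=
    fun {S T} hST a ha => mem_normalizer_iff.2 fun y => mem_normalizer_iff.1 (hST ha) y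
  have hcop : (Nat.card A0).Coprime (Nat.card G0) := by
    rw [hA0, hG0, Nat.card_congr (subgroupOfEquivOfLe (le_sup_right : A ≤ (G ⊔ A : Subgroup X))).toEquiv,
      Nat.card_congr (subgroupOfEquivOfLe (le_sup_left : G ≤ (G ⊔ A : Subgroup X))).toEquiv]
    exact h.hcop
  have hC : G0 ⊓ centralizer (A0 : Set (G ⊔ A : Subgroup X)) ≤ normalizer (P0 : Set (G ⊔ A : Subgroup X)) := by
    intro g hg
    refine hnorm h.centralizing_le_normalizer_invInter (mem_subgroupOf.2 ⟨hg.1, mem_centralizer_iff.2 fun a ha => ?_⟩)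
    exact congrArg Subtype.val (mem_centralizer_iff.1 hg.2 ⟨a, mem_sup_right ha⟩ ha)
  have hirr : ∀ W : Submodule (ZMod p) (Fin n → ZMod p),
      (∀ g ∈ G0.map ρ ⊔ A0.map ρ, ∀ w ∈ W, (g : Module.End (ZMod p) (Fin n → ZMod p)) w ∈ W) → W = ⊥ ∨ W = ⊤ := by
    intro W hW
    set N : Subgroup X := ((AddSubgroup.toSubgroup W.toAddSubgroup).comap π).map B.subtype with hN
    have hmem : ∀ b : B, (b : X) ∈ N ↔ (π b).toAdd ∈ W := fun b => mem_map_iff_mem B.subtype_injective
    have hNn : ∀ {K : Subgroup X}, K ≤ (G ⊔ A : Subgroup X) → (∀ g : (G ⊔ A : Subgroup X), (g : X) ∈ K → ρ g ∈ G0.map ρ ⊔ A0.map ρ) →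
        K ≤ normalizer (N : Set X) := fun hKΓ hK => le_normalizer_of_conj_mem fun a ha y hy => by
      obtain ⟨b, hb, rfl⟩ := hy
      have h1 := hW _ (hK ⟨a, hKΓ ha⟩ ha) _ ((hmem b).1 (mem_map_of_mem _ hb))
      rw [hρ] at h1
      exact (hmem _).2 h1
    rcases hi.irr N (fun m hm => (hmem ⟨m, hi.le hm⟩).2 (by rw [(hker _).2 hm]; exact W.zero_mem))
      (map_subtype_le _) (hNn le_sup_left fun g hg => mem_sup_left (mem_map_of_mem ρ (mem_subgroupOf.2 hg)))
      (hNn le_sup_right fun g hg => mem_sup_right (mem_map_of_mem ρ (mem_subgroupOf.2 hg))) with e | e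
    · refine Or.inl (eq_bot_iff.2 fun w hw => ?_)
      obtain ⟨b, hb⟩ := hπ (Multiplicative.ofAdd w)
      have h1 : π b = 1 := (hker b).2 (e ▸ (hmem b).2 (by rw [hb]; exact hw))
      rw [hb, ofAdd_eq_one] at h1
      rw [h1]; exact zero_mem _
    · refine Or.inr (eq_top_iff.2 fun w _ => ?_)
      obtain ⟨b, hb⟩ := hπ (Multiplicative.ofAdd w)
      have h1 := (hmem b).1 (e.symm ▸ b.2)
      rwa [hb] at h1
  have hAn0 : A0.map ρ ≤ normalizer (G0.map ρ : Set _) := (map_mono (hnorm h.hAn)).trans (le_normalizer_map ρ)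
  have hcore : NoCore (G0.map ρ) := KL.noCore_of_irr hAn0 hirr
  have hmem := KL.quadratic_mem_pCore h.hp5 _ (G0.map ρ) (A0.map ρ) (P0.map ρ) (ρ x0) (Nat.lt_succ_self _) hAn0
    ((hcop.coprime_dvd_left (A0.card_map_dvd ρ)).coprime_dvd_right (G0.card_map_dvd ρ))
    (map_mono fun _ hg => h.invInter_le hg) (h.invInter_isPGroup.comap_subtype.map ρ)
    ((map_mono (hnorm h.le_normalizer_invInter)).trans (le_normalizer_map ρ))
    ((map_fixed ρ (hnorm h.hAn) hcop).trans ((map_mono hC).trans (le_normalizer_map ρ)))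
    (mem_map_of_mem ρ (show x0 ∈ P0 from hx)) hξξ
  rw [hcore _ (map_subtype_le _) (le_normalizer.trans (normalizer_le_pCore_map (p := p) _))
    ((CfsgLib.Core.isPGroup_pCore p _).map _), mem_bot] at hmem
  intro b hb
  refine (hzero ⟨b, hb⟩).1 ?_
  rw [hξ, op_eq_zero.2 hmem]; rfl

end CfsgLib.Flavell
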