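import Cfsg.Agent.Lib.Flavell.Setting
import Cfsg.Agent.Lib.Flavell.Functor
import Cfsg.Agent.Lib.Transfer.PResidual

/-!
Owner: helper26 (S1930). The test subgroups: minimal invariant subgroups of the core not centralised by the
residual of a normal invariant subgroup.
-/

set_option autoImplicit false
set_option linter.unusedSectionVars false

namespace CfsgLib.Flavell

open Cfsg Subgroup
open scoped commutatorElement

universe u

variable {p : ℕ} [Fact p.Prime] {X : Type u} [Group X] [Finite X] {G A B M H : Subgroup X}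

theorem normalizer_le_char_map (B : Subgroup X) (K : Subgroup B) [K.Characteristic] :
    normalizer (B : Set X) ≤ normalizer (K.map B.subtype : Set X) := by
  intro g hg
  rw [mem_normalizer_iff_map_conj_eq] at hg ⊢
  let e : B ≃* B := (B.equivMapOfInjective (MulAut.conj g).toMonoidHom (MulAut.conj g).injective).trans
    (MulEquiv.subgroupCongr hg)
  show Subgroup.map (MulAut.conj g).toMonoidHom (K.map B.subtype) = _
  rw [Subgroup.map_map, show (MulAut.conj g).toMonoidHom.comp B.subtype = B.subtype.comp e.toMonoidHom from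
      MonoidHom.ext fun _ => rfl, ← Subgroup.map_map, Subgroup.characteristic_iff_map_eq.1 inferInstance e]

theorem normalizer_le_centralizer' (K : Subgroup X) :
    normalizer (K : Set X) ≤ normalizer (centralizer (K : Set X) : Set X) :=
  le_normalizer_of_conj_mem fun a ha c hc => mem_centralizer_iff.2 fun k hk => by
    have e := mem_centralizer_iff.1 hc _ ((mem_normalizer_iff''.1 ha k).1 hk)
    calc k * (a * c * a⁻¹) = a * ((a⁻¹ * k * a) * c) * a⁻¹ := by group
      _ = a * (c * (a⁻¹ * k * a)) * a⁻¹ := by rw [e]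
      _ = _ := by group

theorem normalizer_le_zIn (K : Subgroup X) : normalizer (K : Set X) ≤ normalizer (zIn K : Set X) :=
  (le_inf le_rfl (normalizer_le_centralizer' K)).trans inf_normalizer_le_normalizer_inf

theorem eq_one_of_pow_coprime {B : Subgroup X} (hB : IsPGroup p B) {c : X} (hc : c ∈ B) {m : ℕ}
    (hm : m.Coprime p) (h : c ^ m = 1) : c = 1 := by
  obtain ⟨k, hk⟩ := hB ⟨c, hc⟩
  have hk' : c ^ p ^ k = 1 := congrArg Subtype.val hk
  have h1 := Nat.dvd_gcd (orderOf_dvd_of_pow_eq_one h) (orderOf_dvd_of_pow_eq_one hk')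
  rw [(hm.pow_right k : m.Coprime (p ^ k)), Nat.dvd_one] at h1
  exact orderOf_eq_one_iff.1 h1

/-- A test subgroup for `H`. -/
structure Test (p : ℕ) (G A H B M : Subgroup X) : Prop where
  irr : Irr G A B M
  le_core : B ≤ coreOf p G
  central : M ≤ centralizer (B : Set X)
  resid : ∀ g ∈ H, (orderOf g).Coprime p → ∀ m ∈ M, g * m = m * g
  not_triv : ¬ H ≤ actTriv B M

/-- The join of the tests. -/
def bPlus (p : ℕ) (G A : Subgroup X) : Subgroup X := sSup {B | ∃ H M, Test p G A H B M}

theorem Test.le_bPlus (t : Test p G A H B M) : B ≤ bPlus p G A := le_sSup ⟨_, _, t⟩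

theorem bPlus_le_core : bPlus p G A ≤ coreOf p G := sSup_le fun _ ⟨_, _, t⟩ => t.le_core

theorem Test.isPGroup (t : Test p G A H B M) : IsPGroup p B := coreOf_isPGroup.to_le t.le_core

theorem Test.ne (t : Test p G A H B M) (hG : H ≤ G) : M ≠ B := fun e => t.not_triv fun g hg => by
  refine ⟨t.irr.normB (hG hg), t.irr.normM (hG hg), fun b hb => ?_⟩
  rw [e, show ⁅b, g⁆ = b * (g * b⁻¹ * g⁻¹) by simp only [commutatorElement_def]; group]
  exact B.mul_mem hb ((mem_normalizer_iff.1 (t.irr.normB (hG hg)) _).1 (B.inv_mem hb))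

theorem Test.ne_bot (t : Test p G A H B M) (hG : H ≤ G) : B ≠ ⊥ := fun e =>
  t.ne hG (le_antisymm t.irr.le (e.le.trans bot_le))

theorem exists_test (hsc : G ⊓ centralizer (coreOf p G : Set X) ≤ coreOf p G) (hA : A ≤ normalizer (G : Set X))
    (hHG : H ≤ G) (hGH : G ≤ normalizer (H : Set X)) (hAH : A ≤ normalizer (H : Set X))
    (hH : ¬ IsPGroup p H) : ∃ B M, Test p G A H B M := by
  set N := (Cfsg.pResidual p H).map H.subtype with hNdef
  have hgen : ∀ {K : Subgroup X}, (∀ g ∈ H, (orderOf g).Coprime p → g ∈ K) → N ≤ K := fun {K} hK => by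
    rw [hNdef, map_le_iff_le_comap, CfsgLib.Transfer.pResidual_le_iff]
    exact fun g hg => hK g g.2 (by rwa [Subgroup.orderOf_coe])
  have hmemN : ∀ g ∈ H, (orderOf g).Coprime p → g ∈ N := fun g hg hc =>
    ⟨⟨g, hg⟩, CfsgLib.Transfer.mem_pResidual_of_coprime (by rwa [Subgroup.orderOf_mk]), rfl⟩
  have hNH : N ≤ H := map_subtype_le _
  have hGN : G ≤ normalizer (N : Set X) := hGH.trans (normalizer_le_char_map H _)
  have hAN : A ≤ normalizer (N : Set X) := hAH.trans (normalizer_le_char_map H _)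
  have hD : ¬ N ≤ centralizer (coreOf p G : Set X) := by
    intro hc
    refine hH fun ⟨g, hg⟩ => ?_
    obtain ⟨k, hk⟩ := CfsgLib.Transfer.exists_pow_prime_pow_coprime (p := p) g
    have hgk := hmemN _ (H.pow_mem hg _) hk
    have hD1 : g ^ p ^ k ∈ coreOf p G := hsc ⟨hHG (hNH hgk), hc hgk⟩
    exact ⟨k, Subtype.ext (eq_one_of_pow_coprime coreOf_isPGroup hD1 hk (pow_orderOf_eq_one _))⟩
  obtain ⟨B, ⟨hBD, hGB, hAB, hBN⟩, hmin⟩ := wellFounded_lt.has_min
    {B : Subgroup X | B ≤ coreOf p G ∧ G ≤ normalizer (B : Set X) ∧ A ≤ normalizer (B : Set X) ∧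
      ¬ N ≤ centralizer (B : Set X)}
    ⟨coreOf p G, le_rfl, le_normalizer.trans normalizer_le_coreOf, hA.trans normalizer_le_coreOf, hD⟩
  set M := B ⊓ centralizer (N : Set X) with hM
  have hnM : ∀ {K : Subgroup X}, K ≤ normalizer (B : Set X) → K ≤ normalizer (N : Set X) →
      K ≤ normalizer (M : Set X) := fun hB hN =>
    (le_inf hB (hN.trans (normalizer_le_centralizer' N))).trans inf_normalizer_le_normalizer_inf
  have hi : Irr G A B M := by
    refine ⟨inf_le_left, hGB, hnM hGB hGN, hAB, hnM hAB hAN, fun K hMK hKB hGK hAK => ?_⟩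
    rcases eq_or_lt_of_le hKB with e | hlt
    · exact Or.inr e
    refine Or.inl (le_antisymm (le_inf hKB ?_) hMK)
    have : N ≤ centralizer (K : Set X) := by
      by_contra hn
      exact hmin K ⟨hKB.trans hBD, hGK, hAK, hn⟩ hlt
    exact le_centralizer_iff.1 this
  have hBp : IsPGroup p B := coreOf_isPGroup.to_le hBD
  set Sg := {c : X | ∃ b ∈ B, ∃ n ∈ N, c = b⁻¹ * (n * b * n⁻¹)} with hSg
  have hclB : closure Sg ≤ B := (closure_le _).2 (by
    rintro _ ⟨b, hb, n, hn, rfl⟩
    exact B.mul_mem (B.inv_mem hb) ((mem_normalizer_iff.1 (hGB (hHG (hNH hn))) b).1 hb))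
  have hcln : ∀ {K : Subgroup X}, K ≤ normalizer (B : Set X) → K ≤ normalizer (N : Set X) →
      K ≤ normalizer (closure Sg : Set X) := fun {K} hB hN => le_normalizer_of_conj_mem fun a ha c hc => by
    suffices h : closure Sg ≤ (closure Sg).comap (MulAut.conj a).toMonoidHom from h hc
    refine (closure_le _).2 ?_
    rintro _ ⟨b, hb, n, hn, rfl⟩
    refine subset_closure ⟨a * b * a⁻¹, (mem_normalizer_iff.1 (hB ha) b).1 hb, a * n * a⁻¹,
      (mem_normalizer_iff.1 (hN ha) n).1 hn, ?_⟩
    show a * _ * a⁻¹ = _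
    group
  have hclM : ¬ closure Sg ≤ M := by
    intro hle
    refine hBN (hgen fun g hg hc => mem_centralizer_iff.2 fun b hb => ?_)
    have hgN := hmemN g hg hc
    obtain ⟨c, hcdef⟩ : ∃ c, c = b⁻¹ * (g * b * g⁻¹) := ⟨_, rfl⟩
    have hcM : c ∈ M := hle (subset_closure ⟨b, hb, g, hgN, hcdef⟩)
    have hcg : g * c = c * g := mem_centralizer_iff.1 hcM.2 g hgN
    have hk : ∀ k : ℕ, g ^ k * b * (g ^ k)⁻¹ = b * c ^ k := by
      intro k
      induction k with
      | zero => simp
      | succ k ih =>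
        have hck : g * c ^ k * g⁻¹ = c ^ k := by
          rw [(show Commute g c from hcg).pow_right k |>.eq, mul_inv_cancel_right]
        calc g ^ (k + 1) * b * (g ^ (k + 1))⁻¹ = g * (g ^ k * b * (g ^ k)⁻¹) * g⁻¹ := by
              rw [pow_succ']; group
          _ = (g * b * g⁻¹) * (g * c ^ k * g⁻¹) := by rw [ih]; group
          _ = b * c * c ^ k := by rw [hck, hcdef]; group
          _ = b * c ^ (k + 1) := by rw [pow_succ', mul_assoc]
    have h1 := hk (orderOf g)
    rw [pow_orderOf_eq_one, inv_one, one_mul, mul_one, left_eq_mul] at h1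
    have hc1 := eq_one_of_pow_coprime hBp hcM.1 hc h1
    rw [hcdef, inv_mul_eq_one] at hc1
    calc b * g = g * b * g⁻¹ * g := by rw [← hc1]
      _ = g * b := by group
  have hgenB : closure Sg = B := by
    by_contra hne
    apply hclM
    rcases hi.irr (M ⊔ closure Sg) le_sup_left (sup_le hi.le hclB)
      ((le_inf hi.normM (hcln hGB hGN)).trans (normalizer_inf_normalizer_le_normalizer_sup M _))
      ((le_inf hi.normM' (hcln hAB hAN)).trans (normalizer_inf_normalizer_le_normalizer_sup M _)) with e | e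
    · exact le_sup_right.trans e.le
    · -- a proper invariant subgroup is centralised
      exact le_inf hclB (le_centralizer_iff.1 (by
        by_contra hn
        exact hmin _ ⟨hclB.trans hBD, hcln hGB hGN, hcln hAB hAN, hn⟩ (lt_of_le_of_ne hclB hne)))
  have hcent : M ≤ centralizer (B : Set X) := by
    refine le_centralizer_iff.1 (hgenB.ge.trans ((closure_le _).2 ?_))
    rintro _ ⟨b, hb, n, hn, rfl⟩
    refine mem_centralizer_iff.2 fun m hm => ?_
    have hz : ⁅b, m⁆ ∈ M := hi.commutator_mem hBp hb hm.1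
    have e1 : n * ⁅b, m⁆ * n⁻¹ = ⁅b, m⁆ := by
      rw [mem_centralizer_iff.1 hz.2 n hn, mul_inv_cancel_right]
    have e2 : n * m * n⁻¹ = m := by rw [mem_centralizer_iff.1 hm.2 n hn, mul_inv_cancel_right]
    have e3 : (n * b * n⁻¹) * m * (n * b * n⁻¹)⁻¹ = b * m * b⁻¹ := by
      calc (n * b * n⁻¹) * m * (n * b * n⁻¹)⁻¹ = (n * ⁅b, m⁆ * n⁻¹) * (n * m * n⁻¹) * (n * (b * (n⁻¹ * (n * (m⁻¹ * (n⁻¹ * m * n))) * n⁻¹ * n)) * b⁻¹ * n⁻¹) := by
            simp only [commutatorElement_def]; group
        _ = _ := by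
          rw [e1, e2, show n⁻¹ * m * n = m by
            conv_lhs => rw [← e2]
            group]
          simp only [commutatorElement_def]; group
    calc m * (b⁻¹ * (n * b * n⁻¹)) = b⁻¹ * (b * m * b⁻¹) * (n * b * n⁻¹) := by group
      _ = b⁻¹ * ((n * b * n⁻¹) * m * (n * b * n⁻¹)⁻¹) * (n * b * n⁻¹) := by rw [e3]
      _ = _ := by group
  refine ⟨B, M, hi, hBD, hcent, fun g hg hc m hm => mem_centralizer_iff.1 hm.2 g (hmemN g hg hc), fun hle => ?_⟩
  refine hclM ((closure_le _).2 ?_)
  rintro _ ⟨b, hb, n, hn, rfl⟩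
  have := (mem_actTriv.1 (hle (hNH hn))).2.2 b⁻¹ (B.inv_mem hb)
  rwa [show ⁅b⁻¹, n⁆ = b⁻¹ * (n * b * n⁻¹) by simp only [commutatorElement_def]; group] at this

/-- Tests are generators of the functor. -/
theorem Test.mem (h : Setup p G A) (t : Test p G A H B M) {T S : Subgroup X} (hS : S ≤ invInter p G A)
    (hT : B ≤ T) : Mem T S B := by
  have hSB : S ≤ normalizer (B : Set X) := (hS.trans h.invInter_le).trans t.irr.normB
  have hMz : M ≤ zIn B := le_inf t.irr.le t.central
  refine ⟨hT, hSB, fun b hb b' hb' => hMz (t.irr.commutator_mem t.isPGroup hb hb'), fun x hx hq b hb => ?_⟩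
  rcases t.irr.irr (zIn B) hMz inf_le_left (t.irr.normB.trans (normalizer_le_zIn B))
    (t.irr.normB'.trans (normalizer_le_zIn B)) with e | e
  · rw [e] at hq ⊢
    exact h.quad_section t.irr t.isPGroup (hS hx) hq b hb
  · rw [e, show ⁅b, x⁆ = b * (x * b⁻¹ * x⁻¹) by simp only [commutatorElement_def]; group]
    exact B.mul_mem hb ((mem_normalizer_iff.1 (hSB hx) _).1 (B.inv_mem hb))

theorem bPlus_le_phi (h : Setup p G A) {T S : Subgroup X} (hS : S ≤ invInter p G A) (hT : coreOf p G ≤ T) :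
    bPlus p G A ≤ phi T S :=
  sSup_le fun _ ⟨_, _, t⟩ => le_phi (t.mem h hS (t.le_core.trans hT))

end CfsgLib.Flavell
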